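import Groth.Agent.FlatEtNhd.Ops
import Groth.Agent.WLocalLib.EtaleProd

/-! Good neighbourhoods of a whole fibre. -/

set_option autoImplicit false
set_option backward.isDefEq.respectTransparency false
set_option backward.isDefEq.respectTransparency.types false
attribute [-instance] CategoryTheory.catToReflQuiver

universe u

open TensorProduct IsLocalRing

namespace Groth.Agent.FlatEtNhd

variable {R S : Type u} [CommRing R] [CommRing S] [Algebra R S]

theorem isEtaleNhd_self (p : Ideal R) [p.IsPrime] : FlatCA.IsEtaleNhd R R p p := by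
  haveI : IsLocalization.Away (1 : R) R := IsLocalization.away_of_isUnit_of_bijective R isUnit_one Function.bijective_id
  haveI : p.LiesOver p := ⟨Ideal.comap_id p |>.symm⟩
  exact DevExist.isEtaleNhd_away R (1 : R) p p

/-- An elementary etale neighbourhood can be shrunk to have a single prime over the given one. -/
theorem exists_shrink_unique {R' : Type u} [CommRing R'] [Algebra R R'] {p : Ideal R} [p.IsPrime]
    {p' : Ideal R'} [p'.IsPrime] (h : FlatCA.IsEtaleNhd R R' p p') :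
    ∃ r : R', r ∉ p' ∧ ∀ P : Ideal R', P.IsPrime → P.LiesOver p → P ≠ p' → r ∈ P := by
  obtain ⟨he, hp', -⟩ := h
  haveI := he; haveI := hp'
  classical
  have hfin := Algebra.QuasiFinite.finite_primesOver (R := R) (S := R') p
  have hle : ∀ P : Ideal R', P.IsPrime → P.LiesOver p → P ≠ p' → ¬ P ≤ p' := fun P hP hPo hne hle => by
    haveI := hP; haveI := hPo
    exact hne (Algebra.QuasiFinite.eq_of_le_of_under_eq (R := R) P p' hle (hPo.over.symm.trans hp'.over))
  have hx : ∀ P : hfin.toFinset, ∃ x : R', x ∉ p' ∧ ((P : Ideal R') ≠ p' → x ∈ (P : Ideal R')) := fun P => by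
    by_cases hP : (P : Ideal R') = p'
    · exact ⟨1, fun h1 => Ideal.IsPrime.ne_top ‹p'.IsPrime› ((Ideal.eq_top_iff_one _).2 h1), fun h => absurd hP h⟩
    · obtain ⟨hpr, hov⟩ := hfin.mem_toFinset.1 P.2
      obtain ⟨x, hxP, hxp⟩ := SetLike.not_le_iff_exists.1 (hle _ hpr hov hP)
      exact ⟨x, hxp, fun _ => hxP⟩
  choose x hx' hxP using hx
  refine ⟨∏ P, x P, fun h => ?_, fun P hP hPo hne => ?_⟩
  · obtain ⟨i, -, hi⟩ := Ideal.IsPrime.prod_mem_iff.1 h
    exact hx' i hi
  · exact Ideal.mem_of_dvd _ (Finset.dvd_prod_of_mem x (Finset.mem_univ ⟨P, hfin.mem_toFinset.2 ⟨hP, hPo⟩⟩))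
      (hxP ⟨P, hfin.mem_toFinset.2 ⟨hP, hPo⟩⟩ hne)

/-- A good neighbourhood of a set of points of the fibre. -/
def GoodOn (R S : Type u) [CommRing R] [CommRing S] [Algebra R S] (p : Ideal R) [p.IsPrime]
    (N : Type u) [AddCommGroup N] [Module S N] (V : Set (PrimeSpectrum S)) : Prop :=
  ∃ (R' S' : Type u) (_ : CommRing R') (_ : CommRing S') (_ : Algebra R R') (_ : Algebra S S') (_ : Algebra R' S')
    (_ : Algebra R S') (_ : IsScalarTower R R' S') (_ : IsScalarTower R S S') (p' : Ideal R') (_ : p'.IsPrime),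
    FlatCA.IsEtaleNhd R R' p p' ∧ Algebra.Etale S S' ∧ Good R' p' S S' N ∧
      ∀ Q ∈ V, Q.asIdeal.LiesOver p → ∃ Q' : Ideal S', Q'.IsPrime ∧ Q'.comap (algebraMap S S') = Q.asIdeal ∧
        Q'.LiesOver p'

theorem goodOn_mono {p : Ideal R} [p.IsPrime] {N : Type u} [AddCommGroup N] [Module S N]
    {V W : Set (PrimeSpectrum S)} (h : V ⊆ W) (hW : GoodOn R S p N W) : GoodOn R S p N V := by
  obtain ⟨R', S', _, _, _, _, _, _, _, _, p', _, hR, hS, hG, hlift⟩ := hW
  exact ⟨R', S', inferInstance, inferInstance, inferInstance, inferInstance, inferInstance, inferInstance,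
    inferInstance, inferInstance, p', inferInstance, hR, hS, hG, fun Q hQ => hlift Q (h hQ)⟩

theorem goodOn_empty (p : Ideal R) [p.IsPrime] (N : Type u) [AddCommGroup N] [Module S N] :
    GoodOn R S p N ∅ := by
  let S' := Localization.Away (0 : S)
  haveI : Subsingleton S' := IsLocalization.subsingleton (M := Submonoid.powers (0 : S)) ⟨1, pow_one 0⟩
  exact ⟨R, S', inferInstance, inferInstance, inferInstance, inferInstance, inferInstance, inferInstance,
    inferInstance, inferInstance, p, inferInstance, isEtaleNhd_self p, Algebra.Etale.of_isLocalizationAway (0 : S),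
    good_of_subsingleton inferInstance, fun Q hQ => absurd hQ (Set.notMem_empty Q)⟩

set_option maxHeartbeats 1600000 in
/-- The base change of a good neighbourhood to a further etale neighbourhood of the base. -/
theorem exists_baseChange {R' S' : Type u} [CommRing R'] [CommRing S'] [Algebra R R'] [Algebra S S'] [Algebra R' S']
    [Algebra R S'] [IsScalarTower R R' S'] [IsScalarTower R S S'] (p : Ideal R) [p.IsPrime] (p' : Ideal R')
    [p'.IsPrime] (hR : FlatCA.IsEtaleNhd R R' p p') [Algebra.Etale S S'] {N : Type u} [AddCommGroup N] [Module S N]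
    (hG : Good R' p' S S' N) (R'' : Type u) [CommRing R''] [Algebra R R''] [Algebra R' R''] [IsScalarTower R R' R'']
    (p'' : Ideal R'') [p''.IsPrime] (hR'' : FlatCA.IsEtaleNhd R R'' p p'') [p''.LiesOver p'] :
    ∃ (S'' : Type u) (_ : CommRing S'') (_ : Algebra S S'') (_ : Algebra R'' S'') (_ : Algebra R S'')
      (_ : IsScalarTower R R'' S'') (_ : IsScalarTower R S S''),
      Algebra.Etale S S'' ∧ Good R'' p'' S S'' N ∧
        ∀ Q' : Ideal S', Q'.IsPrime → Q'.LiesOver p' → ∃ Q'' : Ideal S'', Q''.IsPrime ∧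
          Q''.comap (algebraMap S S'') = Q'.comap (algebraMap S S') ∧ Q''.LiesOver p'' := by
  obtain ⟨heR, hp', hκ⟩ := hR
  obtain ⟨heR'', hp'', hκ''⟩ := hR''
  haveI := heR; haveI := hp'; haveI := heR''; haveI := hp''
  haveI : Algebra.Etale R' R'' := Algebra.Etale.of_restrictScalars R R' R''
  have hκ' : Function.Bijective (Ideal.ResidueField.mapₐ p' p'' (Algebra.ofId R' R'') (Ideal.over_def p'' p')) := by
    have he : (⇑(Ideal.ResidueField.mapₐ p p'' (Algebra.ofId R R'') hp''.over)) =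
        ⇑(Ideal.ResidueField.mapₐ p' p'' (Algebra.ofId R' R'') (Ideal.over_def p'' p')) ∘
          ⇑(Ideal.ResidueField.mapₐ p p' (Algebra.ofId R R') hp'.over) := funext (DevExist.mapₐ_comp p p' p'')
    rw [he] at hκ''
    exact ⟨RingHom.injective _, hκ''.2.of_comp⟩
  let S'' := R'' ⊗[R'] S'
  letI : Algebra S' S'' := Algebra.TensorProduct.rightAlgebra
  haveI : IsScalarTower R' S' S'' := Algebra.TensorProduct.right_isScalarTower
  haveI : Algebra.IsPushout R' R'' S' S'' := TensorProduct.isPushout (R := R') (S := R'') (T := S')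
  haveI : Algebra.Etale S' S'' := DevExist.etale_rightAlgebra R' R'' S'
  letI : Algebra S S'' := ((algebraMap S' S'').comp (algebraMap S S')).toAlgebra
  haveI : IsScalarTower S S' S'' := IsScalarTower.of_algebraMap_eq' rfl
  haveI : Algebra.Etale S S'' := Algebra.Etale.comp S S' S''
  haveI : IsScalarTower R S S'' := IsScalarTower.of_algebraMap_eq fun r => by
    show algebraMap R R'' r ⊗ₜ[R'] (1 : S') = algebraMap S' S'' (algebraMap S S' (algebraMap R S r))
    rw [← IsScalarTower.algebraMap_apply R S S', IsScalarTower.algebraMap_apply R R' S',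
      ← IsScalarTower.algebraMap_apply R' S' S'', IsScalarTower.algebraMap_apply R R' R'']
    rfl
  refine ⟨S'', inferInstance, inferInstance, inferInstance, inferInstance, inferInstance, inferInstance,
    inferInstance, hG.baseChange R'' p'' S'', fun Q' hQ' hQp => ?_⟩
  haveI := hQ'; haveI := hQp
  obtain ⟨Q'', hQ'', hQQ, hQ''p⟩ := FlatDevBC.exists_prime_over (R := R') (R' := R'') (T := S') (T' := S'')
    p' p'' hκ' Q'
  refine ⟨Q'', hQ'', ?_, hQ''p⟩
  rw [IsScalarTower.algebraMap_eq S S' S'', ← Ideal.comap_comap, hQQ.over]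

set_option maxHeartbeats 1600000 in
theorem goodOn_union {p : Ideal R} [p.IsPrime] {N : Type u} [AddCommGroup N] [Module S N]
    {V W : Set (PrimeSpectrum S)} (hV : GoodOn R S p N V) (hW : GoodOn R S p N W) : GoodOn R S p N (V ∪ W) := by
  obtain ⟨R₁, S₁, _, _, _, _, _, _, _, _, p₁, _, hR₁, hS₁, hG₁, hl₁⟩ := hV
  obtain ⟨R₂, S₂, _, _, _, _, _, _, _, _, p₂, _, hR₂, hS₂, hG₂, hl₂⟩ := hW
  haveI := hS₁; haveI := hS₂
  have hR₁' := hR₁
  have hR₂' := hR₂
  obtain ⟨he₁, hp₁, hκ₁⟩ := hR₁'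
  obtain ⟨he₂, hp₂, hκ₂⟩ := hR₂'
  haveI := he₁; haveI := hp₁; haveI := he₂; haveI := hp₂
  let R₀ := R₁ ⊗[R] R₂
  letI : Algebra R₂ R₀ := Algebra.TensorProduct.rightAlgebra
  haveI : IsScalarTower R R₂ R₀ := Algebra.TensorProduct.right_isScalarTower
  haveI : Algebra.IsPushout R R₁ R₂ R₀ := TensorProduct.isPushout (R := R) (S := R₁) (T := R₂)
  obtain ⟨p₀, hp₀, hp₀₂, hp₀₁⟩ := FlatDevBC.exists_prime_over (R := R) (R' := R₁) (T := R₂) (T' := R₀) p p₁ hκ₁ p₂
  haveI := hp₀; haveI := hp₀₂; haveI := hp₀₁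
  haveI : Algebra.Etale R₂ R₀ := DevExist.etale_rightAlgebra R R₁ R₂
  have h₂₀ : FlatCA.IsEtaleNhd R₂ R₀ p₂ p₀ :=
    ⟨inferInstance, hp₀₂, (DevExist.bijective_mapₐ_iff p₂ p₀).2 (FlatDevBC.residueField_bijective p p₁ hκ₁ p₂ p₀)⟩
  have h₀ : FlatCA.IsEtaleNhd R R₀ p p₀ := DevExist.isEtaleNhd_trans (p₁ := p₂) hR₂ h₂₀
  obtain ⟨T₁, _, _, _, _, _, _, hT₁, hH₁, hm₁⟩ := exists_baseChange p p₁ hR₁ hG₁ R₀ p₀ h₀
  obtain ⟨T₂, _, _, _, _, _, _, hT₂, hH₂, hm₂⟩ := exists_baseChange p p₂ hR₂ hG₂ R₀ p₀ h₀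
  haveI := hT₁; haveI := hT₂
  haveI : IsScalarTower R R₀ (T₁ × T₂) := IsScalarTower.of_algebraMap_eq fun r =>
    Prod.ext (IsScalarTower.algebraMap_apply R R₀ T₁ r) (IsScalarTower.algebraMap_apply R R₀ T₂ r)
  haveI : IsScalarTower R S (T₁ × T₂) := IsScalarTower.of_algebraMap_eq fun r =>
    Prod.ext (IsScalarTower.algebraMap_apply R S T₁ r) (IsScalarTower.algebraMap_apply R S T₂ r)
  refine ⟨R₀, T₁ × T₂, inferInstance, inferInstance, inferInstance, inferInstance, inferInstance, inferInstance,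
    inferInstance, inferInstance, p₀, inferInstance, h₀, WLocalLib.etale_prod, hH₁.prod hH₂, ?_⟩
  intro Q hQ hQp
  rcases hQ with hQ | hQ
  · obtain ⟨Q', hQ', hQ'c, hQ'p⟩ := hl₁ Q hQ hQp
    obtain ⟨Q'', hQ'', hQ''c, hQ''p⟩ := hm₁ Q' hQ' hQ'p
    haveI := hQ''; haveI := hQ''p
    refine ⟨Q''.comap (RingHom.fst T₁ T₂), Ideal.IsPrime.comap _, ?_, ⟨?_⟩⟩
    · rw [Ideal.comap_comap]
      exact hQ''c.trans hQ'c
    · show p₀ = Ideal.comap (algebraMap R₀ (T₁ × T₂)) _
      rw [Ideal.comap_comap]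
      exact hQ''p.over
  · obtain ⟨Q', hQ', hQ'c, hQ'p⟩ := hl₂ Q hQ hQp
    obtain ⟨Q'', hQ'', hQ''c, hQ''p⟩ := hm₂ Q' hQ' hQ'p
    haveI := hQ''; haveI := hQ''p
    refine ⟨Q''.comap (RingHom.snd T₁ T₂), Ideal.IsPrime.comap _, ?_, ⟨?_⟩⟩
    · rw [Ideal.comap_comap]
      exact hQ''c.trans hQ'c
    · show p₀ = Ideal.comap (algebraMap R₀ (T₁ × T₂)) _
      rw [Ideal.comap_comap]
      exact hQ''p.over

set_option maxHeartbeats 800000 in
/-- Every point where the module is flat has an open set of good points around it. -/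
theorem exists_goodOn_nhd [Algebra.FiniteType R S] (N : Type u) [AddCommGroup N] [Module S N] [Module R N]
    [IsScalarTower R S N] [Module.Finite S N] (p : Ideal R) [p.IsPrime] (q : Ideal S) [q.IsPrime] [q.LiesOver p]
    (hflat : FlatCA.FlatAt R q N) :
    ∃ U : Set (PrimeSpectrum S), IsOpen U ∧ (⟨q, inferInstance⟩ : PrimeSpectrum S) ∈ U ∧ GoodOn R S p N U := by
  obtain ⟨R', S', _, _, _, _, _, _, _, _, p', q', _, _, hR, hS, hover, hG⟩ := exists_good N p q hflat
  haveI := hover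
  obtain ⟨r, hr, hr'⟩ := exists_shrink_unique hR
  let R₁ := Localization.Away r
  obtain ⟨hp₁0, hp₁1⟩ := FlatDevLoc.isPrime_map_away (T' := R₁) r p' hr
  let p₁ : Ideal R₁ := p'.map (algebraMap R' R₁)
  haveI : p₁.IsPrime := hp₁0
  haveI hp₁ : p₁.LiesOver p' := hp₁1
  have hR₁ : FlatCA.IsEtaleNhd R R₁ p p₁ := DevExist.isEtaleNhd_trans (p₁ := p') hR (DevExist.isEtaleNhd_away R₁ r p' p₁)
  obtain ⟨heS, hq', -⟩ := hS
  haveI := heS; haveI := hq'
  obtain ⟨S₁, _, _, _, _, _, _, hS₁, hG₁, hm⟩ := exists_baseChange p p' hR hG R₁ p₁ hR₁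
  haveI := hS₁
  obtain ⟨Q₁, hQ₁, hQ₁c, -⟩ := hm q' inferInstance hover
  haveI := hQ₁
  refine ⟨Set.range (PrimeSpectrum.comap (algebraMap S S₁)), ?_,
    ⟨⟨Q₁, hQ₁⟩, PrimeSpectrum.ext (hQ₁c.trans hq'.over.symm)⟩,
    R₁, S₁, inferInstance, inferInstance, inferInstance, inferInstance, inferInstance, inferInstance, inferInstance,
    inferInstance, p₁, inferInstance, hR₁, hS₁, hG₁, ?_⟩
  · rw [← Set.image_univ]
    exact PrimeSpectrum.isOpenMap_comap_of_hasGoingDown_of_finitePresentation _ isOpen_univ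
  · rintro _ ⟨Q', rfl⟩ hQp
    refine ⟨Q'.asIdeal, Q'.isPrime, rfl, ⟨?_⟩⟩
    show p₁ = Q'.asIdeal.comap (algebraMap R₁ S₁)
    let P₁ := Q'.asIdeal.comap (algebraMap R₁ S₁)
    let P := P₁.comap (algebraMap R' R₁)
    haveI : P₁.IsPrime := Ideal.IsPrime.comap _
    have hP : P.LiesOver p := ⟨by
      show p = ((Q'.asIdeal.comap (algebraMap R₁ S₁)).comap (algebraMap R' R₁)).comap (algebraMap R R')
      rw [Ideal.comap_comap, ← IsScalarTower.algebraMap_eq, Ideal.comap_comap, ← IsScalarTower.algebraMap_eq,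
        IsScalarTower.algebraMap_eq R S S₁, ← Ideal.comap_comap]
      exact hQp.over⟩
    have hPp : P = p' := by
      by_contra hne
      refine Ideal.IsPrime.ne_top ‹P₁.IsPrime› (Ideal.eq_top_of_isUnit_mem _ ?_ (IsLocalization.Away.algebraMap_isUnit r))
      exact hr' P (Ideal.IsPrime.comap _) hP hne
    exact FlatDevLoc.eq_of_comap_away r _ _ (hp₁.over.symm.trans hPp.symm)

set_option maxHeartbeats 800000 in
/-- A module flat along a whole fibre has a good neighbourhood of the fibre. -/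
theorem exists_goodOn_fibre [Algebra.FiniteType R S] (N : Type u) [AddCommGroup N] [Module S N] [Module R N]
    [IsScalarTower R S N] [Module.Finite S N] (p : Ideal R) [p.IsPrime]
    (hflat : ∀ (q : Ideal S) [q.IsPrime], q.LiesOver p → FlatCA.FlatAt R q N) :
    GoodOn R S p N {Q | Q.asIdeal.LiesOver p} := by
  letI : Algebra S (p.Fiber S) := Algebra.TensorProduct.rightAlgebra
  let c := PrimeSpectrum.comap (algebraMap S (p.Fiber S))
  let K : Set (PrimeSpectrum S) := {Q | Q.asIdeal.LiesOver p}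
  have hK : IsCompact K := by
    have : K = Set.range c := Set.ext fun Q => by
      constructor
      · intro hQ
        haveI : Q.asIdeal.LiesOver p := hQ
        refine ⟨PrimeSpectrum.primesOverOrderIsoFiber R S p ⟨Q.asIdeal, Q.isPrime, hQ⟩, PrimeSpectrum.ext ?_⟩
        exact congrArg Subtype.val ((PrimeSpectrum.primesOverOrderIsoFiber R S p).symm_apply_apply ⟨Q.asIdeal, Q.isPrime, hQ⟩)
      · rintro ⟨x, rfl⟩
        exact ((PrimeSpectrum.primesOverOrderIsoFiber R S p).symm x).2.2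
    rw [this]
    exact isCompact_range (PrimeSpectrum.continuous_comap _)
  refine hK.induction_on (p := fun V => GoodOn R S p N V) (goodOn_empty p N) (fun V W h hW => goodOn_mono h hW)
    (fun V W hV hW => goodOn_union hV hW) fun Q hQ => ?_
  haveI : Q.asIdeal.LiesOver p := hQ
  obtain ⟨U, hU, hQU, hG⟩ := exists_goodOn_nhd N p Q.asIdeal (hflat Q.asIdeal hQ)
  exact ⟨U, mem_nhdsWithin_of_mem_nhds (hU.mem_nhds hQU), hG⟩

end Groth.Agent.FlatEtNhd
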