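import Groth.Agent.FlatEtNhd.Near

/-! Localisations of a quotient algebra as localised modules. -/

set_option autoImplicit false
set_option backward.isDefEq.respectTransparency false
set_option backward.isDefEq.respectTransparency.types false
attribute [-instance] CategoryTheory.catToReflQuiver

universe u

namespace Groth.Agent.FlatEtNhd

theorem algebra_fp_of_module_fp {A T U : Type u} [CommRing A] [CommRing T] [CommRing U] [Algebra A T] [Algebra A U]
    [Algebra T U] [IsScalarTower A T U] [Algebra.FinitePresentation A T] (hs : Function.Surjective (algebraMap T U))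
    [Module.FinitePresentation T U] : Algebra.FinitePresentation A U :=
  Algebra.FinitePresentation.of_surjective (f := IsScalarTower.toAlgHom A T U) hs
    (Module.FinitePresentation.fg_ker (Algebra.linearMap T U) hs)

theorem algebra_flat_fp_away {A P U : Type u} [CommRing A] [CommRing P] [CommRing U] [Algebra A P] [Algebra A U]
    [Algebra P U] [IsScalarTower A P U] [Algebra.FinitePresentation A P] (hs : Function.Surjective (algebraMap P U))
    (g : P) (hfp : Module.FinitePresentation (Localization.Away g) (LocalizedModule (Submonoid.powers g) U))
    (hfl : Module.Flat A (LocalizedModule (Submonoid.powers g) U)) :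
    Module.Flat A (Localization.Away (algebraMap P U g)) ∧
      Algebra.FinitePresentation A (Localization.Away (algebraMap P U g)) := by
  let T := Localization.Away g
  let V := Localization.Away (algebraMap P U g)
  letI : Algebra T V := (IsLocalization.Away.lift g (g := algebraMap P V) (by
    rw [IsScalarTower.algebraMap_apply P U V]
    exact IsLocalization.Away.algebraMap_isUnit (algebraMap P U g))).toAlgebra
  haveI : IsScalarTower P T V := IsScalarTower.of_algebraMap_eq fun x => (IsLocalization.Away.lift_eq g _ x).symm
  haveI : IsScalarTower A T V := IsScalarTower.to₁₃₄ A P T V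
  haveI : IsLocalizedModule (Submonoid.powers (algebraMap P U g)) (Algebra.linearMap U V) := inferInstance
  let l : U →ₗ[P] V := (Algebra.linearMap U V).restrictScalars P
  haveI : IsLocalizedModule (Submonoid.powers g) l := IsLocalizedModule.restrictScalars_powers g _
  let e : LocalizedModule (Submonoid.powers g) U ≃ₗ[P] V :=
    IsLocalizedModule.linearEquiv (Submonoid.powers g) (LocalizedModule.mkLinearMap (Submonoid.powers g) U) l
  let eT : LocalizedModule (Submonoid.powers g) U ≃ₗ[T] V :=
    e.extendScalarsOfIsLocalization (Submonoid.powers g) T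
  haveI := hfp
  haveI : Module.FinitePresentation T V := Module.FinitePresentation.of_equiv eT
  haveI := hfl
  haveI : Algebra.FinitePresentation P T := IsLocalization.Away.finitePresentation g
  haveI : Algebra.FinitePresentation A T := Algebra.FinitePresentation.trans A P T
  refine ⟨Module.Flat.of_linearEquiv (e.restrictScalars A).symm, algebra_fp_of_module_fp (T := T) fun v => ?_⟩
  obtain ⟨u, ⟨_, k, rfl⟩, rfl⟩ := IsLocalization.exists_mk'_eq (Submonoid.powers (algebraMap P U g)) v
  obtain ⟨x, rfl⟩ := hs u
  refine ⟨IsLocalization.mk' T x (⟨g ^ k, k, rfl⟩ : Submonoid.powers g), ?_⟩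
  rw [IsLocalization.eq_mk'_iff_mul_eq]
  show _ * algebraMap U V (algebraMap P U g ^ k) = _
  rw [← map_pow, ← IsScalarTower.algebraMap_apply P U V, IsScalarTower.algebraMap_apply P T V, ← map_mul,
    IsLocalization.mk'_spec, ← IsScalarTower.algebraMap_apply, ← IsScalarTower.algebraMap_apply]

open TensorProduct in
/-- The base change of a presentation of an algebra, over a model of the base change of the algebra. -/
theorem exists_quotient_model {R A P S SA : Type u} [CommRing R] [CommRing A] [CommRing P] [CommRing S] [CommRing SA]
    [Algebra R A] [Algebra R P] [Algebra R S] [Algebra P S] [IsScalarTower R P S] [Algebra R SA] [Algebra S SA]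
    [Algebra A SA] [IsScalarTower R S SA] [IsScalarTower R A SA] [Algebra P SA] [IsScalarTower P S SA]
    [Algebra.IsPushout R S A SA] [Algebra.FinitePresentation R P] (hφ : Function.Surjective (algebraMap P S)) :
    ∃ (PA : Type u) (_ : CommRing PA) (_ : Algebra R PA) (_ : Algebra P PA) (_ : Algebra A PA) (_ : Algebra PA SA)
      (_ : IsScalarTower R P PA) (_ : IsScalarTower R A PA) (_ : IsScalarTower A PA SA) (_ : IsScalarTower P PA SA),
      Algebra.IsPushout R P A PA ∧ Algebra.FinitePresentation A PA ∧ Function.Surjective (algebraMap PA SA) ∧
      IsBaseChange PA (IsScalarTower.toAlgHom P S SA).toLinearMap := by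
  let PA := A ⊗[R] P
  letI : Algebra P PA := Algebra.TensorProduct.rightAlgebra
  haveI : IsScalarTower R P PA := Algebra.TensorProduct.right_isScalarTower
  haveI : Algebra.IsPushout R A P PA := TensorProduct.isPushout (R := R) (S := A) (T := P)
  haveI hP : Algebra.IsPushout R P A PA := Algebra.IsPushout.symm inferInstance
  haveI : IsScalarTower R P SA := IsScalarTower.to₁₂₄ R P S SA
  let π : PA →ₐ[A] SA := Algebra.TensorProduct.lift (Algebra.ofId A SA) (IsScalarTower.toAlgHom R P SA)
    fun _ _ => Commute.all _ _
  letI : Algebra PA SA := π.toRingHom.toAlgebra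
  haveI : IsScalarTower A PA SA := IsScalarTower.of_algebraMap_eq fun a => (π.commutes a).symm
  haveI : IsScalarTower P PA SA := IsScalarTower.of_algebraMap_eq fun s => by
    show algebraMap P SA s = Algebra.TensorProduct.lift _ _ _ ((1 : A) ⊗ₜ[R] s)
    rw [Algebra.TensorProduct.lift_tmul, map_one, one_mul]
    rfl
  haveI : IsScalarTower R PA SA := IsScalarTower.to₁₃₄ R P PA SA
  haveI hpush : Algebra.IsPushout P S PA SA :=
    (Algebra.IsPushout.comp_iff (R := R) (S := P) (R' := A) (S' := PA) (T := S) (T' := SA)).1 inferInstance
  haveI hpush' : Algebra.IsPushout P PA S SA := Algebra.IsPushout.symm hpush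
  exact ⟨PA, inferInstance, inferInstance, inferInstance, inferInstance, inferInstance, inferInstance, inferInstance,
    inferInstance, inferInstance, hP, inferInstance, DevExist.surjective_of_isPushout P PA S SA hφ, hpush'.out⟩

end Groth.Agent.FlatEtNhd
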