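import Groth.Agent.FlatEtNhd.Glue
import Groth.Agent.RGLib.GeomBasis

/-! Descent of flatness and finite presentation to an open set in the image of an etale map. -/

set_option autoImplicit false
set_option backward.isDefEq.respectTransparency false
set_option backward.isDefEq.respectTransparency.types false
attribute [-instance] CategoryTheory.catToReflQuiver

universe u

open TensorProduct IsLocalRing

namespace Groth.Agent.FlatEtNhd

theorem exists_basic_in_image {SA C : Type u} [CommRing SA] [CommRing C] [Algebra SA C] [Algebra.Etale SA C]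
    (x : Ideal C) [x.IsPrime] :
    ∃ g : SA, g ∉ x.comap (algebraMap SA C) ∧
      (PrimeSpectrum.basicOpen g : Set (PrimeSpectrum SA)) ⊆ Set.range (PrimeSpectrum.comap (algebraMap SA C)) := by
  have hopen : IsOpen (Set.range (PrimeSpectrum.comap (algebraMap SA C))) := by
    rw [← Set.image_univ]
    exact PrimeSpectrum.isOpenMap_comap_of_hasGoingDown_of_finitePresentation _ isOpen_univ
  obtain ⟨_, ⟨g, rfl⟩, hg, hsub⟩ := PrimeSpectrum.isTopologicalBasis_basic_opens.exists_subset_of_mem_open
    (show (⟨x.comap (algebraMap SA C), Ideal.IsPrime.comap _⟩ : PrimeSpectrum SA) ∈ Set.range (PrimeSpectrum.comap (algebraMap SA C)) from ⟨⟨x, inferInstance⟩, rfl⟩) hopen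
  exact ⟨g, hg, hsub⟩

theorem faithfullyFlat_away {SA C : Type u} [CommRing SA] [CommRing C] [Algebra SA C] [Module.Flat SA C] (g : SA)
    (B Cg : Type u) [CommRing B] [Algebra SA B] [IsLocalization.Away g B] [CommRing Cg] [Algebra C Cg]
    [IsLocalization.Away (algebraMap SA C g) Cg] [Algebra SA Cg] [IsScalarTower SA C Cg] [Algebra B Cg]
    [IsScalarTower SA B Cg]
    (hsub : (PrimeSpectrum.basicOpen g : Set (PrimeSpectrum SA)) ⊆ Set.range (PrimeSpectrum.comap (algebraMap SA C))) :
    Module.FaithfullyFlat B Cg := by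
  haveI : Module.Flat C Cg := IsLocalization.flat Cg (Submonoid.powers (algebraMap SA C g))
  haveI : Module.Flat SA Cg := Module.Flat.trans SA C Cg
  haveI : Module.Flat B Cg := (Module.flat_iff_of_isLocalization B (Submonoid.powers g) _).2 inferInstance
  refine Module.FaithfullyFlat.of_comap_surjective fun P => ?_
  have hP : g ∉ P.asIdeal.comap (algebraMap SA B) := fun h =>
    P.isPrime.ne_top (Ideal.eq_top_of_isUnit_mem _ h (IsLocalization.Away.algebraMap_isUnit g))
  obtain ⟨x, hx⟩ := hsub (show (⟨P.asIdeal.comap (algebraMap SA B), Ideal.IsPrime.comap _⟩ : PrimeSpectrum SA) ∈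
    (PrimeSpectrum.basicOpen g : Set _) from hP)
  have hxg : algebraMap SA C g ∉ x.asIdeal := fun h => hP (by
    have := congrArg PrimeSpectrum.asIdeal hx
    exact (SetLike.ext_iff.1 this g).1 h)
  obtain ⟨hy, hyx⟩ := FlatDevLoc.isPrime_map_away (T' := Cg) (algebraMap SA C g) x.asIdeal hxg
  refine ⟨⟨_, hy⟩, PrimeSpectrum.ext ?_⟩
  haveI := hy
  haveI : (Ideal.comap (algebraMap B Cg) (x.asIdeal.map (algebraMap C Cg))).IsPrime := Ideal.IsPrime.comap _
  refine FlatDevLoc.eq_of_comap_away g _ _ ?_
  show ((x.asIdeal.map (algebraMap C Cg)).comap (algebraMap B Cg)).comap (algebraMap SA B) = _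
  rw [Ideal.comap_comap, ← IsScalarTower.algebraMap_eq, IsScalarTower.algebraMap_eq SA C Cg, ← Ideal.comap_comap,
    show (x.asIdeal.map (algebraMap C Cg)).comap (algebraMap C Cg) = x.asIdeal from hyx.over.symm]
  exact congrArg PrimeSpectrum.asIdeal hx

theorem fp_of_isBaseChange {C C' M M' : Type u} [CommRing C] [CommRing C'] [Algebra C C'] [AddCommGroup M]
    [Module C M] [AddCommGroup M'] [Module C' M'] [Module C M'] [IsScalarTower C C' M'] (l : M →ₗ[C] M')
    (hl : IsBaseChange C' l) [Module.FinitePresentation C M] : Module.FinitePresentation C' M' :=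
  Module.FinitePresentation.of_equiv hl.equiv

set_option maxHeartbeats 800000 in
/-- On a basic open inside the image of an etale map, flatness and finite presentation descend. -/
theorem flat_fp_away (A : Type u) {SA C : Type u} [CommRing A] [CommRing SA] [CommRing C] [Algebra A SA]
    [Algebra SA C] [Algebra A C] [IsScalarTower A SA C] [Algebra.Etale SA C]
    (NA : Type u) [AddCommGroup NA] [Module SA NA] [Module A NA] [IsScalarTower A SA NA]
    (g : SA) (hsub : (PrimeSpectrum.basicOpen g : Set (PrimeSpectrum SA)) ⊆ Set.range (PrimeSpectrum.comap (algebraMap SA C)))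
    (hfree : Module.Free A (RestrictScalars A C (C ⊗[SA] NA))) :
    Module.Flat A (LocalizedModule (Submonoid.powers g) NA) ∧
      (Module.FinitePresentation C (C ⊗[SA] NA) →
        Module.FinitePresentation (Localization.Away g) (LocalizedModule (Submonoid.powers g) NA)) := by
  let M := C ⊗[SA] NA
  let eM : RestrictScalars A C M ≃ₗ[A] M :=
    { RestrictScalars.addEquiv A C M with map_smul' := fun a m => IsScalarTower.algebraMap_smul C a _ }
  haveI := hfree
  haveI : Module.Flat A M := Module.Flat.of_linearEquiv eM.symm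
  let B := Localization.Away g
  let gC := algebraMap SA C g
  let Cg := Localization.Away gC
  letI : Algebra B Cg := (IsLocalization.Away.lift g (g := algebraMap SA Cg)
    (by rw [IsScalarTower.algebraMap_apply SA C Cg]; exact IsLocalization.Away.algebraMap_isUnit gC)).toAlgebra
  haveI : IsScalarTower SA B Cg := IsScalarTower.of_algebraMap_eq fun x => (IsLocalization.Away.lift_eq g _ x).symm
  haveI := faithfullyFlat_away g B Cg hsub
  let M' := Cg ⊗[C] M
  haveI : Module.Flat C Cg := IsLocalization.flat Cg (Submonoid.powers gC)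
  haveI : Module.Flat A M' := RGLib.flat_tensor_left A C M Cg
  let L := LocalizedModule (Submonoid.powers g) NA
  let lM : M →ₗ[C] M' := TensorProduct.mk C Cg M 1
  have hlM : IsBaseChange Cg lM := TensorProduct.isBaseChange C M Cg
  letI : Module B M' := Module.compHom M' (algebraMap B Cg)
  haveI : IsScalarTower B Cg M' := IsScalarTower.of_algebraMap_smul fun _ _ => rfl
  haveI : IsScalarTower SA B M' := IsScalarTower.to₁₂₄ SA B Cg M'
  let f' : NA →ₗ[SA] M' := (lM.restrictScalars SA).comp (TensorProduct.mk SA C NA 1)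
  have hf' : IsBaseChange Cg f' := (TensorProduct.isBaseChange SA NA C).comp hlM
  have hL : IsBaseChange B (LocalizedModule.mkLinearMap (Submonoid.powers g) NA) :=
    IsLocalizedModule.isBaseChange (Submonoid.powers g) B _
  let a : L →ₗ[B] M' := hL.lift f'
  have ha : IsBaseChange Cg a := IsBaseChange.of_comp hL (by
    rw [show ((a.restrictScalars SA) ∘ₗ LocalizedModule.mkLinearMap (Submonoid.powers g) NA) = f' from
      LinearMap.ext fun n => hL.lift_eq f' n]; exact hf')
  haveI : IsScalarTower A SA B := inferInstance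
  haveI : IsScalarTower A B Cg := IsScalarTower.to₁₃₄ A SA B Cg
  haveI : IsScalarTower A B M' := IsScalarTower.to₁₂₄ A B Cg M'
  haveI : IsScalarTower A B L := IsScalarTower.to₁₃₄ A SA B L
  refine ⟨DevEtale.flat_of_isBaseChange_faithfullyFlat (A := A) (B := B) (B' := Cg) (M := L) (M' := M') a ha, fun hfp => ?_⟩
  haveI := hfp
  haveI : Module.FinitePresentation Cg M' := fp_of_isBaseChange lM hlM
  exact DevEtale.fp_of_faithfullyFlat a ha

end Groth.Agent.FlatEtNhd
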