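import Groth.Agent.DevExist.Main
import Groth.Agent.DevFree.Main
import Groth.Agent.S1252

/-! Etale neighbourhoods on which a module flat at a point becomes free over the local base. -/

set_option autoImplicit false
set_option backward.isDefEq.respectTransparency false
set_option backward.isDefEq.respectTransparency.types false
attribute [-instance] CategoryTheory.catToReflQuiver

universe u

open TensorProduct IsLocalRing

namespace Groth.Agent.FlatEtNhd

/-- The base changes of `N` to `S'` over the local ring of `R'` at `p'` are finitely presented and free. -/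
def Good (R' : Type u) [CommRing R'] (p' : Ideal R') [p'.IsPrime] (S : Type u) [CommRing S] (S' : Type u)
    [CommRing S'] [Algebra R' S'] [Algebra S S'] (N : Type u) [AddCommGroup N] [Module S N] : Prop :=
  ∀ (C : Type u) [CommRing C] [Algebra S' C] [Algebra S C] [IsScalarTower S S' C] [Algebra R' C]
    [IsScalarTower R' S' C] [Algebra (Localization.AtPrime p') C] [IsScalarTower R' (Localization.AtPrime p') C]
    [Algebra.IsPushout R' (Localization.AtPrime p') S' C]
    (M : Type u) [AddCommGroup M] [Module C M] [Module S M] [IsScalarTower S C M]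
    [Module (Localization.AtPrime p') M] [IsScalarTower (Localization.AtPrime p') C M] (f : N →ₗ[S] M),
    IsBaseChange C f → Module.FinitePresentation C M ∧ Module.Free (Localization.AtPrime p') M

theorem subsingleton_of_isBaseChange {S C N M : Type u} [CommRing S] [CommRing C] [Algebra S C] [AddCommGroup N]
    [Module S N] [AddCommGroup M] [Module C M] [Module S M] [IsScalarTower S C M] {f : N →ₗ[S] M}
    (hf : IsBaseChange C f) (d : S) (hd : IsUnit (algebraMap S C d)) (h : ∀ n : N, d • n = 0) : Subsingleton M :=
  DevExist.subsingleton_of_isBaseChange_of_smul_eq_zero hf d hd h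

set_option maxHeartbeats 800000 in
/-- A module flat at a point is good on an elementary etale neighbourhood. -/
theorem exists_good {R S : Type u} [CommRing R] [CommRing S] [Algebra R S] [Algebra.FiniteType R S]
    (N : Type u) [AddCommGroup N] [Module S N] [Module R N] [IsScalarTower R S N] [Module.Finite S N]
    (p : Ideal R) [p.IsPrime] (q : Ideal S) [q.IsPrime] [q.LiesOver p] (hflat : FlatCA.FlatAt R q N) :
    ∃ (R' S' : Type u) (_ : CommRing R') (_ : CommRing S') (_ : Algebra R R') (_ : Algebra S S') (_ : Algebra R' S')
      (_ : Algebra R S') (_ : IsScalarTower R R' S') (_ : IsScalarTower R S S')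
      (p' : Ideal R') (q' : Ideal S') (_ : p'.IsPrime) (_ : q'.IsPrime),
      FlatCA.IsEtaleNhd R R' p p' ∧ FlatCA.IsEtaleNhd S S' q q' ∧ q'.LiesOver p' ∧ Good R' p' S S' N := by
  let x := PrimeSpectrum.primesOverOrderIsoFiber R S p ⟨q, inferInstance, inferInstance⟩
  by_cases hann : Module.annihilator S N ≤ q
  · have hsupp : ∃ x ∈ Module.support (p.Fiber S) (FlatCA.fiberMod p S N), x.asIdeal = FlatCA.fiberIdeal p q :=
      ⟨x, (FlatDevBC.mem_support_fiber_iff p x).2 (by rw [OrderIso.symm_apply_apply]; exact hann),
        FlatDevLoc.primesOver_fiberIdeal p q inferInstance⟩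
    obtain ⟨R', S', _, _, _, _, _, _, _, _, p', q', _, _, hR, hS, hover, hdev⟩ :=
      DevExist.exists_hasDevNhd N p q hsupp
    refine ⟨R', S', inferInstance, inferInstance, inferInstance, inferInstance, inferInstance, inferInstance,
      inferInstance, inferInstance, p', q', inferInstance, inferInstance, hR, hS, hover, ?_⟩
    obtain ⟨heR, hp', -⟩ := hR
    obtain ⟨heS, hq', -⟩ := hS
    haveI := heR; haveI := heS; haveI := hp'; haveI := hq'; haveI := hover
    intro C _ _ _ _ _ _ _ _ _ M _ _ _ _ _ _ f hf
    let A := Localization.AtPrime p'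
    have hκ : Function.Bijective (Ideal.ResidueField.mapₐ p' (maximalIdeal A) (Algebra.ofId R' A)
        (Ideal.over_def (maximalIdeal A) p')) :=
      FlatDevLoc.residueField_bijectiveₐ_of_isLocalization p'.primeCompl p' (maximalIdeal A)
    obtain ⟨qC, hqC, hqCq, hqCm⟩ := FlatDevBC.exists_prime_over (R := R') (R' := A) (T := S') (T' := C)
      p' (maximalIdeal A) hκ q'
    haveI := hqC; haveI := hqCq; haveI := hqCm
    let N' := S' ⊗[S] N
    let g : N →ₗ[S] N' := TensorProduct.mk S S' N 1
    have hg : IsBaseChange S' g := TensorProduct.isBaseChange S N S'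
    letI : Module S' M := Module.compHom M (algebraMap S' C)
    haveI : IsScalarTower S' C M := IsScalarTower.of_algebraMap_smul fun _ _ => rfl
    haveI : IsScalarTower S S' M := IsScalarTower.to₁₂₄ S S' C M
    let a : N' →ₗ[S'] M := hg.lift f
    have ha : IsBaseChange C a := IsBaseChange.of_comp hg (by
      rw [show ((a.restrictScalars S) ∘ₗ g) = f from LinearMap.ext fun n => hg.lift_eq f n]; exact hf)
    have hdevC := ((hdev N' g hg).baseChange_at A (maximalIdeal A) hκ C M a ha qC).hasCompleteDevissageAt
    obtain ⟨D, ⟨𝒜⟩⟩ := hdevC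
    haveI : IsScalarTower R' S' N' := inferInstance
    haveI : IsScalarTower R R' N' := IsScalarTower.to₁₂₄ R R' S' N'
    haveI : Module.Flat S S' := inferInstance
    have h1 : FlatCA.FlatAt R q' N' := (DevEtale.flatAt_iff_of_flat R g hg q q').1 hflat
    have h2 : FlatCA.FlatAt R' q' N' := (DevEtale.flat_iff_of_etale_base R R' _).1 h1
    letI : Module R' M := Module.compHom M (algebraMap R' C)
    haveI : IsScalarTower R' C M := IsScalarTower.of_algebraMap_smul fun _ _ => rfl
    haveI : IsScalarTower R' A M := IsScalarTower.to₁₂₄ R' A C M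
    haveI : IsScalarTower R' A (LocalizedModule qC.primeCompl M) := IsScalarTower.to₁₂₄ R' A C _
    haveI : Module.Flat R' A := IsLocalization.flat A p'.primeCompl
    haveI : Module.Flat S' C := by
      haveI := Algebra.IsPushout.symm (R := R') (S := A) (R' := S') (S' := C) inferInstance
      exact Module.Flat.isBaseChange R' S' A C (Algebra.IsPushout.out)
    have h3 : FlatCA.FlatAt R' qC M := (DevEtale.flatAt_iff_of_flat R' a ha q' qC).1 h2
    have h4 : FlatCA.FlatAt A qC M := (Module.flat_iff_of_isLocalization A p'.primeCompl _).2 h3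
    obtain ⟨hfp, hfree, -⟩ := DevFree.free_of_completeDevissageAt M qC h4 D 𝒜
    exact ⟨hfp, hfree⟩
  · obtain ⟨d, hd, hdq⟩ := SetLike.not_le_iff_exists.1 hann
    let S' := Localization.Away d
    obtain ⟨hq0, hqq0⟩ := FlatDevLoc.isPrime_map_away (T' := S') d q hdq
    let q' : Ideal S' := q.map (algebraMap S S')
    haveI : q'.IsPrime := hq0
    haveI hq'q : q'.LiesOver q := hqq0
    haveI : IsLocalization.Away (1 : R) R := IsLocalization.away_of_isUnit_of_bijective R isUnit_one Function.bijective_id
    haveI : p.LiesOver p := ⟨Ideal.comap_id p |>.symm⟩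
    have hp : FlatCA.IsEtaleNhd R R p p := DevExist.isEtaleNhd_away R (1 : R) p p
    refine ⟨R, S', inferInstance, inferInstance, inferInstance, inferInstance, inferInstance, inferInstance,
      inferInstance, inferInstance, p, q', inferInstance, inferInstance, hp, DevExist.isEtaleNhd_away S' d q q',
      Ideal.LiesOver.trans q' q p, fun C _ _ _ _ _ _ _ _ _ M _ _ _ _ _ _ f hf => ?_⟩
    haveI : Subsingleton M := subsingleton_of_isBaseChange hf d
      (by rw [IsScalarTower.algebraMap_apply S S' C]; exact (IsLocalization.Away.algebraMap_isUnit d).map _)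
      (Module.mem_annihilator.1 hd)
    exact ⟨inferInstance, inferInstance⟩

end Groth.Agent.FlatEtNhd
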