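import Groth.Agent.FlatEtNhd.Descend

/-! Flatness and finite presentation near points of the fibre over the local ring of a neighbourhood. -/

set_option autoImplicit false
set_option backward.isDefEq.respectTransparency false
set_option backward.isDefEq.respectTransparency.types false
attribute [-instance] CategoryTheory.catToReflQuiver

universe u

open TensorProduct IsLocalRing

namespace Groth.Agent.FlatEtNhd

variable {R S : Type u} [CommRing R] [CommRing S] [Algebra R S]

theorem bijective_residue_localRing {R' : Type u} [CommRing R'] [Algebra R R'] (p : Ideal R) [p.IsPrime]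
    (p' : Ideal R') [p'.IsPrime] (hR : FlatCA.IsEtaleNhd R R' p p') :
    ∃ h : (maximalIdeal (Localization.AtPrime p')).LiesOver p,
      Function.Bijective (Ideal.ResidueField.mapₐ p (maximalIdeal (Localization.AtPrime p'))
        (Algebra.ofId R (Localization.AtPrime p')) h.over) := by
  obtain ⟨-, hp', hκ⟩ := hR
  haveI := hp'
  let A := Localization.AtPrime p'
  have hκ' : Function.Bijective (Ideal.ResidueField.mapₐ p' (maximalIdeal A) (Algebra.ofId R' A)
      (Ideal.over_def (maximalIdeal A) p')) :=
    FlatDevLoc.residueField_bijectiveₐ_of_isLocalization p'.primeCompl p' (maximalIdeal A)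
  haveI h : (maximalIdeal A).LiesOver p := Ideal.LiesOver.trans (maximalIdeal A) p' p
  refine ⟨h, ?_⟩
  rw [show (⇑(Ideal.ResidueField.mapₐ p (maximalIdeal A) (Algebra.ofId R A) h.over)) =
      ⇑(Ideal.ResidueField.mapₐ p' (maximalIdeal A) (Algebra.ofId R' A) (Ideal.over_def (maximalIdeal A) p')) ∘
        ⇑(Ideal.ResidueField.mapₐ p p' (Algebra.ofId R R') hp'.over) from funext (DevExist.mapₐ_comp p p' _)]
  exact hκ'.comp hκ

/-- Over the local ring, a prime of the base change is determined by the prime of the fibre below it. -/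
theorem eq_of_over {R' : Type u} [CommRing R'] [Algebra R R'] (p : Ideal R) [p.IsPrime] (p' : Ideal R') [p'.IsPrime]
    (hR : FlatCA.IsEtaleNhd R R' p p') (SA : Type u) [CommRing SA] [Algebra R SA] [Algebra S SA]
    [Algebra (Localization.AtPrime p') SA] [IsScalarTower R S SA] [IsScalarTower R (Localization.AtPrime p') SA]
    [Algebra.IsPushout R S (Localization.AtPrime p') SA] (q : Ideal S) (Q₁ Q₂ : Ideal SA) [Q₁.IsPrime] [Q₂.IsPrime]
    [Q₁.LiesOver q] [Q₂.LiesOver q] [Q₁.LiesOver (maximalIdeal (Localization.AtPrime p'))]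
    [Q₂.LiesOver (maximalIdeal (Localization.AtPrime p'))] : Q₁ = Q₂ := by
  obtain ⟨h, hb⟩ := bijective_residue_localRing p p' hR
  haveI := h
  haveI : Algebra.IsPushout R (Localization.AtPrime p') S SA := Algebra.IsPushout.symm inferInstance
  exact FlatDevBC.eq_of_liesOver (R := R) (R' := Localization.AtPrime p') (T := S) (T' := SA) p
    (maximalIdeal (Localization.AtPrime p')) hb q Q₁ Q₂

set_option maxHeartbeats 800000 in
theorem exists_near_of_lift {R' S' : Type u} [CommRing R'] [CommRing S'] [Algebra R R'] [Algebra S S'] [Algebra R' S']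
    [Algebra R S'] [IsScalarTower R R' S'] [IsScalarTower R S S'] [Algebra.Etale S S']
    {N : Type u} [AddCommGroup N] [Module S N] (p : Ideal R) [p.IsPrime] (p' : Ideal R') [p'.IsPrime]
    (hR : FlatCA.IsEtaleNhd R R' p p') (hG : Good R' p' S S' N)
    (SA NA : Type u) [CommRing SA] [Algebra R SA] [Algebra S SA] [Algebra (Localization.AtPrime p') SA]
    [IsScalarTower R S SA] [IsScalarTower R (Localization.AtPrime p') SA]
    [Algebra.IsPushout R S (Localization.AtPrime p') SA]
    [AddCommGroup NA] [Module SA NA] [Module S NA] [IsScalarTower S SA NA]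
    [Module (Localization.AtPrime p') NA] [IsScalarTower (Localization.AtPrime p') SA NA]
    (f : N →ₗ[S] NA) (hf : IsBaseChange SA f) (q : Ideal S) (Q' : Ideal S') [Q'.IsPrime]
    (hQp : Q'.LiesOver p') (hQq : Q'.comap (algebraMap S S') = q) :
    ∃ g : SA, (∀ (Q : Ideal SA) [Q.IsPrime], Q.LiesOver q → Q.LiesOver (maximalIdeal (Localization.AtPrime p')) → g ∉ Q) ∧
      Module.FinitePresentation (Localization.Away g) (LocalizedModule (Submonoid.powers g) NA) ∧
      Module.Flat (Localization.AtPrime p') (LocalizedModule (Submonoid.powers g) NA) := by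
  haveI := hR.1
  let A := Localization.AtPrime p'
  obtain ⟨C, _, _, _, _, _, _, hC, hfp, hfree, -, hlift⟩ := exists_etale_model (R := R) p' hG SA NA f hf
  haveI := hC
  obtain ⟨x, hx, hxq, hxm, -⟩ := hlift Q' inferInstance hQp
  haveI := hx; haveI := hxm
  obtain ⟨g, hg, hsub⟩ := exists_basic_in_image (SA := SA) x
  refine ⟨g, fun Q _ hQ hQm h => hg ?_, (flat_fp_away A NA g hsub hfree).2 hfp, (flat_fp_away A NA g hsub hfree).1⟩
  haveI := hQ; haveI := hQm
  let X := x.comap (algebraMap SA C)
  haveI : X.IsPrime := Ideal.IsPrime.comap _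
  haveI : X.LiesOver q := ⟨by
    show q = (x.comap (algebraMap SA C)).comap (algebraMap S SA)
    rw [Ideal.comap_comap, ← IsScalarTower.algebraMap_eq, hxq, hQq]⟩
  haveI : X.LiesOver (maximalIdeal A) := ⟨by
    show maximalIdeal A = (x.comap (algebraMap SA C)).comap (algebraMap A SA)
    rw [Ideal.comap_comap, ← IsScalarTower.algebraMap_eq]
    exact hxm.over⟩
  have : X = Q := eq_of_over p p' hR SA q X Q
  show g ∈ X
  rw [this]
  exact h

end Groth.Agent.FlatEtNhd
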