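import Groth.Agent.FlatEtNhd.Good

/-! Base change and products of good neighbourhoods. -/

set_option autoImplicit false
set_option backward.isDefEq.respectTransparency false
set_option backward.isDefEq.respectTransparency.types false
attribute [-instance] CategoryTheory.catToReflQuiver

universe u

open TensorProduct IsLocalRing

namespace Groth.Agent.FlatEtNhd

variable {R' : Type u} [CommRing R'] {p' : Ideal R'} [p'.IsPrime] {S S' : Type u} [CommRing S] [CommRing S']
  [Algebra R' S'] [Algebra S S'] {N : Type u} [AddCommGroup N] [Module S N]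

/-- Free and finitely presented modules along a base change of the ground ring. -/
theorem free_fp_of_isPushout {A A'' C₀ C S N M : Type u} [CommRing A] [CommRing A''] [CommRing C₀] [CommRing C]
    [CommRing S] [Algebra A A''] [Algebra A C₀] [Algebra A'' C] [Algebra C₀ C] [Algebra A C]
    [IsScalarTower A A'' C] [IsScalarTower A C₀ C] [Algebra.IsPushout A A'' C₀ C]
    [Algebra S C₀] [Algebra S C] [IsScalarTower S C₀ C] [AddCommGroup N] [Module S N]
    [AddCommGroup M] [Module C M] [Module S M] [IsScalarTower S C M] [Module A'' M] [IsScalarTower A'' C M]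
    (f : N →ₗ[S] M) (hf : IsBaseChange C f)
    (h : ∀ (M₀ : Type u) [AddCommGroup M₀] [Module C₀ M₀] [Module S M₀] [IsScalarTower S C₀ M₀] [Module A M₀]
      [IsScalarTower A C₀ M₀] (g : N →ₗ[S] M₀), IsBaseChange C₀ g → Module.FinitePresentation C₀ M₀ ∧ Module.Free A M₀) :
    Module.FinitePresentation C M ∧ Module.Free A'' M := by
  let M₀ := C₀ ⊗[S] N
  let g : N →ₗ[S] M₀ := TensorProduct.mk S C₀ N 1
  have hg : IsBaseChange C₀ g := TensorProduct.isBaseChange S N C₀
  haveI : SMulCommClass A S C₀ := ⟨fun a s c => by simp only [Algebra.smul_def]; ring⟩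
  haveI : IsScalarTower A C₀ M₀ := inferInstance
  obtain ⟨hfp, hfree⟩ := h M₀ g hg
  haveI := hfp; haveI := hfree
  haveI : Algebra.IsPushout A C₀ A'' C := Algebra.IsPushout.symm inferInstance
  letI : Module C₀ M := Module.compHom M (algebraMap C₀ C)
  haveI : IsScalarTower C₀ C M := IsScalarTower.of_algebraMap_smul fun _ _ => rfl
  haveI : IsScalarTower S C₀ M := IsScalarTower.to₁₂₄ S C₀ C M
  let a : M₀ →ₗ[C₀] M := hg.lift f
  have ha : IsBaseChange C a := IsBaseChange.of_comp hg (by
    rw [show ((a.restrictScalars S) ∘ₗ g) = f from LinearMap.ext fun n => hg.lift_eq f n]; exact hf)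
  refine ⟨Module.FinitePresentation.of_equiv ha.equiv, ?_⟩
  exact Module.Free.of_equiv
    ((Algebra.IsPushout.cancelBaseChange A A'' C₀ C M₀).symm.trans (ha.equiv.restrictScalars A''))

set_option maxHeartbeats 800000 in
theorem Good.baseChange (h : Good R' p' S S' N) (R'' : Type u) [CommRing R''] [Algebra R' R''] (p'' : Ideal R'')
    [p''.IsPrime] [hp : p''.LiesOver p'] (S'' : Type u) [CommRing S''] [Algebra R'' S''] [Algebra S' S'']
    [Algebra R' S''] [IsScalarTower R' R'' S''] [IsScalarTower R' S' S''] [Algebra.IsPushout R' R'' S' S'']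
    [Algebra S S''] [IsScalarTower S S' S''] : Good R'' p'' S S'' N := by
  intro C _ _ _ _ _ _ _ _ _ M _ _ _ _ _ _ f hf
  let A := Localization.AtPrime p'
  let A'' := Localization.AtPrime p''
  letI : Algebra A A'' := (Localization.localRingHom p' p'' (algebraMap R' R'') hp.over).toAlgebra
  letI : Algebra R' C := ((algebraMap R'' C).comp (algebraMap R' R'')).toAlgebra
  haveI : IsScalarTower R' R'' C := IsScalarTower.of_algebraMap_eq' rfl
  haveI : IsScalarTower R' A A'' := IsScalarTower.of_algebraMap_eq fun x => by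
    rw [IsScalarTower.algebraMap_apply R' R'' A'']
    exact (Localization.localRingHom_to_map p' p'' (algebraMap R' R'') hp.over x).symm
  letI : Algebra A C := ((algebraMap A'' C).comp (algebraMap A A'')).toAlgebra
  haveI : IsScalarTower A A'' C := IsScalarTower.of_algebraMap_eq' rfl
  haveI : IsScalarTower R' A'' C := IsScalarTower.of_algebraMap_eq fun x => by
    rw [IsScalarTower.algebraMap_apply R' R'' A'', ← IsScalarTower.algebraMap_apply R'' A'' C]
    rfl
  haveI : IsScalarTower R' A C := IsScalarTower.to₁₂₄ R' A A'' C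
  letI : Algebra S' C := ((algebraMap S'' C).comp (algebraMap S' S'')).toAlgebra
  haveI : IsScalarTower S' S'' C := IsScalarTower.of_algebraMap_eq' rfl
  haveI : IsScalarTower S S' C := IsScalarTower.of_algebraMap_eq fun x => by
    show algebraMap S C x = algebraMap S'' C (algebraMap S' S'' (algebraMap S S' x))
    rw [← IsScalarTower.algebraMap_apply S S' S'', ← IsScalarTower.algebraMap_apply S S'' C]
  haveI : IsScalarTower R' S' C := IsScalarTower.of_algebraMap_eq fun x => by
    show algebraMap R'' C (algebraMap R' R'' x) = algebraMap S'' C (algebraMap S' S'' (algebraMap R' S' x))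
    rw [← IsScalarTower.algebraMap_apply R' S' S'', IsScalarTower.algebraMap_apply R' R'' S'',
      ← IsScalarTower.algebraMap_apply R'' S'' C]
  haveI : IsScalarTower R' S'' C := IsScalarTower.to₁₃₄ R' S' S'' C
  haveI hbig : Algebra.IsPushout R' A'' S' C := DevExist.isPushout_trans R' R'' A'' S' S'' C
  let C₀ := A ⊗[R'] S'
  let π : C₀ →ₐ[A] C := Algebra.TensorProduct.lift (Algebra.ofId A C) (IsScalarTower.toAlgHom R' S' C)
    fun _ _ => Commute.all _ _
  letI : Algebra C₀ C := π.toRingHom.toAlgebra
  letI : Algebra S' C₀ := Algebra.TensorProduct.rightAlgebra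
  haveI : IsScalarTower R' S' C₀ := Algebra.TensorProduct.right_isScalarTower
  haveI : IsScalarTower A C₀ C := IsScalarTower.of_algebraMap_eq fun a => (π.commutes a).symm
  haveI : IsScalarTower S' C₀ C := IsScalarTower.of_algebraMap_eq fun x => by
    show algebraMap S' C x = Algebra.TensorProduct.lift _ _ _ ((1 : A) ⊗ₜ[R'] x)
    rw [Algebra.TensorProduct.lift_tmul, map_one, one_mul]
    rfl
  haveI : IsScalarTower R' C₀ C := IsScalarTower.to₁₃₄ R' A C₀ C
  haveI hC₀ : Algebra.IsPushout R' A S' C₀ := TensorProduct.isPushout (R := R') (S := A) (T := S')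
  haveI hpush : Algebra.IsPushout A A'' C₀ C :=
    (Algebra.IsPushout.comp_iff (R := R') (S := A) (R' := S') (S' := C₀) (T := A'') (T' := C)).1 hbig
  haveI : Algebra.IsPushout A C₀ A'' C := Algebra.IsPushout.symm inferInstance
  letI : Algebra S C₀ := ((algebraMap S' C₀).comp (algebraMap S S')).toAlgebra
  haveI : IsScalarTower S S' C₀ := IsScalarTower.of_algebraMap_eq' rfl
  haveI : IsScalarTower S C₀ C := IsScalarTower.to₁₃₄ S S' C₀ C
  exact free_fp_of_isPushout f hf fun M₀ _ _ _ _ _ _ g hg => h C₀ M₀ g hg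

theorem good_of_subsingleton (hS : Subsingleton S') : Good R' p' S S' N := by
  intro C _ _ _ _ _ _ _ _ _ M _ _ _ _ _ _ f hf
  haveI : Subsingleton C := subsingleton_of_zero_eq_one (by
    rw [← map_one (algebraMap S' C), ← map_zero (algebraMap S' C), Subsingleton.elim (0 : S') 1])
  haveI : Subsingleton M := Module.subsingleton C M
  exact ⟨inferInstance, inferInstance⟩

set_option maxHeartbeats 1600000 in
theorem Good.prod {S₁ S₂ : Type u} [CommRing S₁] [CommRing S₂] [Algebra R' S₁] [Algebra R' S₂] [Algebra S S₁]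
    [Algebra S S₂] (h₁ : Good R' p' S S₁ N) (h₂ : Good R' p' S S₂ N) : Good R' p' S (S₁ × S₂) N := by
  intro C _ _ _ _ _ _ _ _ _ M _ _ _ _ _ _ f hf
  let A := Localization.AtPrime p'
  let P := S₁ × S₂
  have part : ∀ (T : Type u) [CommRing T] [Algebra R' T] [Algebra S T] [Algebra P T] [IsScalarTower R' P T]
      [IsScalarTower S P T] [Module.Finite P T] [Module.Projective P T], Good R' p' S T N →
      Module.Free A ((C ⊗[P] T) ⊗[C] M) ∧ Module.FinitePresentation C ((C ⊗[P] T) ⊗[C] M) := by
    intro T _ _ _ _ _ _ _ _ hT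
    let CT := C ⊗[P] T
    letI : Algebra T CT := Algebra.TensorProduct.rightAlgebra
    haveI : IsScalarTower P T CT := Algebra.TensorProduct.right_isScalarTower
    haveI : IsScalarTower R' C CT := inferInstance
    haveI : IsScalarTower R' P CT := IsScalarTower.to₁₂₄ R' P C CT
    haveI : IsScalarTower R' T CT := IsScalarTower.to₁₃₄ R' P T CT
    haveI : IsScalarTower S C CT := inferInstance
    haveI : IsScalarTower S P CT := IsScalarTower.to₁₂₄ S P C CT
    haveI : IsScalarTower S T CT := IsScalarTower.to₁₃₄ S P T CT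
    haveI : IsScalarTower R' A CT := IsScalarTower.to₁₂₄ R' A C CT
    haveI : Algebra.IsPushout P T C CT := TensorProduct.isPushout (R := P) (S := C) (T := T) |>.symm
    haveI : Algebra.IsPushout R' P A C := Algebra.IsPushout.symm inferInstance
    haveI : Algebra.IsPushout R' T A CT := DevExist.isPushout_trans R' P T A C CT
    haveI : Algebra.IsPushout R' A T CT := Algebra.IsPushout.symm inferInstance
    let MT := CT ⊗[C] M
    let g : N →ₗ[S] MT := ((TensorProduct.mk C CT M 1).restrictScalars S).comp f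
    obtain ⟨hfp, hfree⟩ := hT CT MT g (hf.comp (TensorProduct.isBaseChange C M CT))
    haveI := hfp
    haveI : Module.FinitePresentation C CT := Module.finitePresentation_of_projective C CT
    exact ⟨hfree, Module.FinitePresentation.trans C MT CT⟩
  letI : Algebra P S₁ := (RingHom.fst S₁ S₂).toAlgebra
  letI : Algebra P S₂ := (RingHom.snd S₁ S₂).toAlgebra
  haveI : IsScalarTower R' P S₁ := IsScalarTower.of_algebraMap_eq fun _ => rfl
  haveI : IsScalarTower R' P S₂ := IsScalarTower.of_algebraMap_eq fun _ => rfl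
  haveI : IsScalarTower S P S₁ := IsScalarTower.of_algebraMap_eq fun _ => rfl
  haveI : IsScalarTower S P S₂ := IsScalarTower.of_algebraMap_eq fun _ => rfl
  let e₀ : P ≃ₗ[P] (S₁ × S₂) :=
    { AddEquiv.refl P with map_smul' := fun _ _ => rfl }
  haveI : Module.Projective P S₁ :=
    Module.Projective.of_split (e₀.symm.toLinearMap.comp (LinearMap.inl P S₁ S₂)) ((LinearMap.fst P S₁ S₂).comp e₀.toLinearMap) (by ext x; rfl)
  haveI : Module.Projective P S₂ :=
    Module.Projective.of_split (e₀.symm.toLinearMap.comp (LinearMap.inr P S₁ S₂)) ((LinearMap.snd P S₁ S₂).comp e₀.toLinearMap) (by ext x; rfl)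
  haveI : Module.Finite P S₁ := Module.Finite.of_surjective (Algebra.linearMap P S₁) fun x => ⟨(x, 0), rfl⟩
  haveI : Module.Finite P S₂ := Module.Finite.of_surjective (Algebra.linearMap P S₂) fun x => ⟨(0, x), rfl⟩
  obtain ⟨hfree₁, hfp₁⟩ := part S₁ h₁
  obtain ⟨hfree₂, hfp₂⟩ := part S₂ h₂
  haveI := hfree₁; haveI := hfree₂; haveI := hfp₁; haveI := hfp₂
  let eC : C ≃ₗ[C] (C ⊗[P] S₁) × (C ⊗[P] S₂) :=
    (TensorProduct.AlgebraTensorModule.rid P C C).symm.trans
      ((TensorProduct.AlgebraTensorModule.congr (LinearEquiv.refl C C) e₀).trans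
        (TensorProduct.prodRight P C C S₁ S₂))
  let eM : M ≃ₗ[C] ((C ⊗[P] S₁) ⊗[C] M) × ((C ⊗[P] S₂) ⊗[C] M) :=
    (TensorProduct.lid C M).symm.trans ((TensorProduct.congr eC (LinearEquiv.refl C M)).trans
      (TensorProduct.prodLeft C C _ _ M))
  exact ⟨Module.FinitePresentation.of_equiv eM.symm, Module.Free.of_equiv (eM.restrictScalars A).symm⟩

end Groth.Agent.FlatEtNhd
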